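import Groth.Agent.EtAlg.K119.RefN10a
import Mathlib.FieldTheory.PurelyInseparable.PerfectClosure

/-!
# Nodes N5a (private copy) and N10 of the refutation of S7162
-/

set_option autoImplicit false

namespace Groth.Agent.EtAlg.K119.RefN10

open Groth.Agent.Etalg.EppFrame Groth.Agent.EtAlg.K405 Polynomial

section

variable {Ω : Type} [Field Ω] [CharP Ω 2]

/-- separable extensions: `N' = N N'^2` -/
theorem sqSpan_of_separable {ι : Type} [Fintype ι] {N N' : Subfield Ω} (h : N ≤ N')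
    (hsep : ∀ x ∈ N', IsSeparable N x) (b : ι → Ω) (hN : SqSpan N b) : SqSpan N' b := by
  intro x hx
  have hs := hsep x hx
  have hNchar : CharP N 2 := RingHom.charP (algebraMap N Ω) (algebraMap N Ω).injective 2
  have hexp : ExpChar N 2 := ExpChar.prime Nat.prime_two
  have h1 : x ∈ IntermediateField.adjoin N {x ^ 2} := by
    rw [← IntermediateField.adjoin_simple_eq_adjoin_pow_expChar_of_isSeparable N Ω hs 2]
    exact IntermediateField.mem_adjoin_simple_self N x
  have halg : IsAlgebraic N (x ^ 2) := (hs.isIntegral.pow 2).isAlgebraic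
  have h2 : x ∈ Algebra.adjoin N {x ^ 2} := by
    rw [← IntermediateField.adjoin_simple_toSubalgebra_of_isAlgebraic halg]
    exact h1
  rw [Algebra.adjoin_singleton_eq_range_aeval] at h2
  obtain ⟨f, hf⟩ := h2
  have key : ∀ g : Polynomial N, ∃ a : ι → Ω, (∀ i, a i ∈ N') ∧ aeval (x ^ 2) g = ∑ i, b i * a i ^ 2 := by
    intro g
    induction g using Polynomial.induction_on' with
    | add p q hp hq =>
      obtain ⟨a, ha, ha'⟩ := hp
      obtain ⟨c, hc, hc'⟩ := hq
      refine ⟨fun i => a i + c i, fun i => N'.add_mem (ha i) (hc i), ?_⟩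
      rw [map_add, ha', hc', ← Finset.sum_add_distrib]
      refine Finset.sum_congr rfl fun i _ => ?_
      rw [add_pow_char (R := Ω) (p := 2), mul_add]
    | monomial n c =>
      obtain ⟨a, ha, ha'⟩ := hN c c.2
      refine ⟨fun i => a i * x ^ n, fun i => N'.mul_mem (h (ha i)) (N'.pow_mem hx _), ?_⟩
      rw [aeval_monomial]
      change (c : Ω) * _ = _
      rw [ha', Finset.sum_mul]
      refine Finset.sum_congr rfl fun i _ => ?_
      rw [mul_pow, ← pow_mul, ← pow_mul, mul_comm n 2, mul_assoc]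
  obtain ⟨a, ha, ha'⟩ := key f
  have hf' : aeval (x ^ 2) f = x := hf
  exact ⟨a, ha, hf'.symm.trans ha'⟩

end

variable {Ω : Type} [NormedField Ω] [IsUltrametricDist Ω] [IsAlgClosed Ω] [CharP Ω 2] (C : Ctx Ω)

include C in
set_option linter.unusedVariables false in
theorem N10_defectless {N N' : Subfield Ω} (hK : C.K ≤ N) (hN : N ≤ N') (hfin : N.relfinrank N' ≠ 0)
    {π ϖ : Ω} (hπ : π ∈ N) (hd : Disc N π) (hϖ : ϖ ∈ N') (hd' : Disc N' ϖ) {e : ℕ} (he : ‖π‖ = ‖ϖ‖ ^ e)
    (hres : ResFull N) {τ : Ω} (hτ : τ ∈ N) (hsq : SqSpan N ![1, τ]) : N.relfinrank N' ≤ e :=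
  RefN10a.main C hK hN hfin hπ hd hd' he hres hτ
    (sqSpan_of_separable (RefN10a.le_sepSub hN) (fun _ hx => (RefN10a.mem_sepSub.1 hx).1) _ hsq)

end Groth.Agent.EtAlg.K119.RefN10
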