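import Groth.Agent.EtAlg.K119.RefN9
import Groth.Agent.EtAlg.K458.RefN8

/-!
# Node N10 of the refutation of S7162: no defect (private version, N5a as a hypothesis)
-/

set_option autoImplicit false

namespace Groth.Agent.EtAlg.K119.RefN10a

open Groth.Agent.Etalg.EppFrame Groth.Agent.EtAlg.K405 Polynomial

section

variable {Ω : Type} [NormedField Ω]

theorem zpow_inj {x : ℝ} (h0 : 0 < x) (h1 : x < 1) {m n : ℤ} (h : x ^ m = x ^ n) : m = n :=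
  zpow_right_injective₀ h0 h1.ne h

theorem pos_of_zpow_lt_one {x : ℝ} (h0 : 0 < x) (h1 : x < 1) {n : ℤ} (h : x ^ n < 1) : 0 < n := by
  by_contra hn
  have h2 : (1 : ℝ) ≤ x ^ n := by
    have := one_le_zpow_of_nonpos₀ h0 h1.le (not_lt.1 hn)
    exact this
  exact absurd h (not_lt.2 h2)

/-- a subfield of a discretely valued field, with nontrivial value group, is discretely valued -/
theorem exists_disc {M N' : Subfield Ω} (hM : M ≤ N') {ϖ : Ω} (hd' : Disc N' ϖ) {π : Ω} (hπ : π ∈ M) (h0 : 0 < ‖π‖)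
    (h1 : ‖π‖ < 1) : ∃ ρ ∈ M, Disc M ρ := by
  classical
  have key : ∀ x ∈ M, x ≠ 0 → ‖x‖ < 1 → ∃ n : ℕ, 0 < n ∧ ‖x‖ = ‖ϖ‖ ^ n := by
    intro x hx hx0 hx1
    obtain ⟨n, hn⟩ := hd'.2.2 x (hM hx) hx0
    have hpos : 0 < n := pos_of_zpow_lt_one hd'.1 hd'.2.1 (hn ▸ hx1)
    obtain ⟨k, rfl⟩ := Int.eq_ofNat_of_zero_le hpos.le
    exact ⟨k, by exact_mod_cast hpos, by rw [hn]; exact zpow_natCast _ _⟩
  have hex : ∃ n : ℕ, 0 < n ∧ ∃ x ∈ M, x ≠ 0 ∧ ‖x‖ = ‖ϖ‖ ^ n := by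
    obtain ⟨n, hn, hn'⟩ := key π hπ (norm_pos_iff.1 h0) h1
    exact ⟨n, hn, π, hπ, norm_pos_iff.1 h0, hn'⟩
  obtain ⟨hn, ρ, hρ, hρ0, hρn⟩ := Nat.find_spec hex
  have hmin : ∀ m < Nat.find hex, ¬ (0 < m ∧ ∃ x ∈ M, x ≠ 0 ∧ ‖x‖ = ‖ϖ‖ ^ m) := fun m hm => Nat.find_min hex hm
  set n := Nat.find hex with hndef
  refine ⟨ρ, hρ, norm_pos_iff.2 hρ0, ?_, ?_⟩
  · rw [hρn]
    exact pow_lt_one₀ hd'.1.le hd'.2.1 hn.ne'
  · intro x hx hx0
    obtain ⟨k, hk⟩ := hd'.2.2 x (hM hx) hx0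
    have hnz : (n : ℤ) ≠ 0 := by exact_mod_cast hn.ne'
    have hr0 : 0 ≤ k % n := Int.emod_nonneg k hnz
    have hr1 : k % n < n := Int.emod_lt_of_pos k (by exact_mod_cast hn)
    have hx' : ‖x * ρ ^ (-(k / n))‖ = ‖ϖ‖ ^ (k % n) := by
      rw [norm_mul, norm_zpow, hk, hρn, ← zpow_natCast, ← zpow_mul, ← zpow_add₀ hd'.1.ne']
      congr 1
      have := Int.emod_add_mul_ediv k n
      linarith
    have hr : k % n = 0 := by
      by_contra hne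
      have hpos : 0 < k % n := lt_of_le_of_ne hr0 (Ne.symm hne)
      obtain ⟨j, hj⟩ := Int.eq_ofNat_of_zero_le hr0
      refine hmin j (by rw [hj] at hr1; exact_mod_cast hr1) ⟨by rw [hj] at hpos; exact_mod_cast hpos,
        x * ρ ^ (-(k / n)), M.mul_mem hx (M.zpow_mem hρ _), mul_ne_zero hx0 (zpow_ne_zero _ hρ0), ?_⟩
      rw [hx', hj]
      exact zpow_natCast _ _
    refine ⟨k / n, ?_⟩
    have h2 : k = n * (k / n) := by
      have := Int.emod_add_mul_ediv k n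
      rw [hr, zero_add] at this
      exact this.symm
    rw [hk, hρn, ← zpow_natCast, ← zpow_mul, ← h2]

/-- the elements of `N'` separable over `N` -/
noncomputable def sepSub (N N' : Subfield Ω) : Subfield Ω := (separableClosure N Ω).toSubfield ⊓ N'

theorem mem_sepSub {N N' : Subfield Ω} {x : Ω} : x ∈ sepSub N N' ↔ IsSeparable N x ∧ x ∈ N' := by
  rw [sepSub, Subfield.mem_inf, IntermediateField.mem_toSubfield, mem_separableClosure_iff]

theorem le_sepSub {N N' : Subfield Ω} (hN : N ≤ N') : N ≤ sepSub N N' := fun x hx =>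
  mem_sepSub.2 ⟨isSeparable_algebraMap (⟨x, hx⟩ : N), hN hx⟩

theorem sepSub_le {N N' : Subfield Ω} : sepSub N N' ≤ N' := inf_le_right

theorem exists_pow_mem_sepSub [CharP Ω 2] {N N' : Subfield Ω} (halg : Algebra.IsAlgebraic N Ω) {x : Ω}
    (hx : x ∈ N') : ∃ n : ℕ, x ^ 2 ^ n ∈ sepSub N N' := by
  have hNchar : CharP N 2 := RingHom.charP (algebraMap N Ω) (algebraMap N Ω).injective 2
  have hexp : ExpChar N 2 := ExpChar.prime Nat.prime_two
  have hexp' : ExpChar (separableClosure N Ω) 2 := expChar_of_injective_algebraMap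
    (algebraMap N (separableClosure N Ω)).injective 2
  obtain ⟨n, y, hy⟩ := IsPurelyInseparable.pow_mem (separableClosure N Ω) 2 x
  refine ⟨n, mem_sepSub.2 ⟨?_, N'.pow_mem hx _⟩⟩
  rw [← hy]
  exact mem_separableClosure_iff.1 y.2

end

/-- the node, with the separable step (N5a) as a hypothesis -/
theorem main {Ω : Type} [NormedField Ω] [IsUltrametricDist Ω] [IsAlgClosed Ω] [CharP Ω 2] (C : Ctx Ω)
    {N N' : Subfield Ω} (hK : C.K ≤ N) (hN : N ≤ N') (hfin : N.relfinrank N' ≠ 0)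
    {π ϖ : Ω} (hπ : π ∈ N) (hd : Disc N π) (hd' : Disc N' ϖ) {e : ℕ} (he : ‖π‖ = ‖ϖ‖ ^ e)
    (hres : ResFull N) {τ : Ω} (hτ : τ ∈ N) (hsq : SqSpan (sepSub N N') ![1, τ]) : N.relfinrank N' ≤ e := by
  have halg : Algebra.IsAlgebraic N Ω := ⟨fun y => isAlgebraic_mono hK (C.alg y)⟩
  have hle : N ≤ sepSub N N' := le_sepSub hN
  have hle' : sepSub N N' ≤ N' := sepSub_le
  obtain ⟨ρ, hρ, hdρ⟩ := exists_disc hle' hd' (hle hπ) hd.1 hd.2.1
  have hmul : N.relfinrank (sepSub N N') * (sepSub N N').relfinrank N' = N.relfinrank N' :=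
    Subfield.relfinrank_mul_relfinrank hle hle'
  have h01 : N.relfinrank (sepSub N N') ≠ 0 := fun h' => hfin (by rw [← hmul, h', zero_mul])
  have h02 : (sepSub N N').relfinrank N' ≠ 0 := fun h' => hfin (by rw [← hmul, h', mul_zero])
  -- the exponent of `N_s / N`
  obtain ⟨a, ha⟩ := hdρ.2.2 π (hle hπ) (norm_pos_iff.1 hd.1)
  have hapos : 0 < a := pos_of_zpow_lt_one hdρ.1 hdρ.2.1 (ha ▸ hd.2.1)
  obtain ⟨es, rfl⟩ := Int.eq_ofNat_of_zero_le hapos.le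
  have has : ‖π‖ = ‖ρ‖ ^ es := by rw [ha]; exact zpow_natCast _ _
  have h1 : N.relfinrank (sepSub N N') ≤ es :=
    K458.RefN8.N8_sep C hK hle h01 (fun x hx => (mem_sepSub.1 hx).1) hπ hd hρ hdρ has hres
  -- the purely inseparable part
  obtain ⟨m, hm, hm'⟩ := RefN9.N9_insep hle' h02 (fun x hx => exists_pow_mem_sepSub halg hx) (hle hτ) hsq
  obtain ⟨y, hy, hyρ⟩ := hm' ρ hρ
  have hy0 : y ≠ 0 := by
    rintro rfl
    rw [zero_pow (pow_ne_zero _ two_ne_zero)] at hyρ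
    exact (norm_pos_iff.1 hdρ.1) hyρ.symm
  obtain ⟨b, hb⟩ := hd'.2.2 y hy hy0
  have hρb : ‖ρ‖ = ‖ϖ‖ ^ (b * (2 ^ m : ℕ)) := by
    rw [← hyρ, norm_pow, hb, zpow_mul, zpow_natCast]
  have hbpos : 0 < b := by
    have h2 : 0 < b * (2 ^ m : ℕ) := pos_of_zpow_lt_one hd'.1 hd'.2.1 (hρb ▸ hdρ.2.1)
    exact pos_of_mul_pos_left h2 (Int.natCast_nonneg _)
  obtain ⟨k, rfl⟩ := Int.eq_ofNat_of_zero_le hbpos.le
  have hkpos : 0 < k := by exact_mod_cast hbpos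
  have hρk : ‖ρ‖ = ‖ϖ‖ ^ (k * 2 ^ m) := by
    rw [hρb, ← zpow_natCast]
    congr 1
  have hek : e = k * 2 ^ m * es := by
    have h3 : ‖ϖ‖ ^ e = ‖ϖ‖ ^ (k * 2 ^ m * es) := by rw [← he, has, hρk, ← pow_mul]
    have h4 : ‖ϖ‖ ^ (e : ℤ) = ‖ϖ‖ ^ ((k * 2 ^ m * es : ℕ) : ℤ) := by
      rw [zpow_natCast, zpow_natCast]
      exact h3
    exact_mod_cast zpow_inj hd'.1 hd'.2.1 h4
  rw [← hmul, hek]
  calc N.relfinrank (sepSub N N') * (sepSub N N').relfinrank N' ≤ es * 2 ^ m := Nat.mul_le_mul h1 hm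
    _ = 1 * 2 ^ m * es := by ring
    _ ≤ k * 2 ^ m * es := by
        gcongr
        exact hkpos

end Groth.Agent.EtAlg.K119.RefN10a
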