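import Groth.Agent.EtAlg.K405.Ctx
import Groth.Agent.EtAlg.K315.RefN11

/-!
# Node N9 of the refutation of S7162: purely inseparable extensions of fields with `N = N^2 + τ N^2`

If `u ∈ N' ∖ N` has `u^2 ∈ N`, then `u^2 = a^2 + τ b^2` with `b ≠ 0`, so `√τ ∈ N'`; the field `N(√τ)` has degree at
most two, contains all the square roots of elements of `N` and is again of the form `N_1^2 + √τ N_1^2`. Induction.
-/

set_option autoImplicit false

namespace Groth.Agent.EtAlg.K119.RefN9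

open Groth.Agent.EtAlg.K405 Polynomial

section

variable {Ω : Type} [Field Ω] [CharP Ω 2]

theorem sq_sub (a b : Ω) : (a - b) ^ 2 = a ^ 2 - b ^ 2 := by
  have := sub_pow_char (R := Ω) (p := 2) a b
  exact this

theorem sq_inj {a b : Ω} (h : a ^ 2 = b ^ 2) : a = b := by
  have h1 : (a - b) ^ 2 = 0 := by rw [sq_sub, h, sub_self]
  exact sub_eq_zero.1 (pow_eq_zero_iff (two_ne_zero) |>.1 h1)

/-- a proper purely inseparable extension contains an element of exponent one -/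
theorem exists_sq {N N' : Subfield Ω} (hpi : ∀ x ∈ N', ∃ n : ℕ, x ^ 2 ^ n ∈ N) (h : ¬ N' ≤ N) :
    ∃ u ∈ N', u ∉ N ∧ u ^ 2 ∈ N := by
  classical
  obtain ⟨x, hx, hxN⟩ := Set.not_subset.1 h
  have hex := hpi x hx
  let n := Nat.find hex
  have hn : x ^ 2 ^ n ∈ N := Nat.find_spec hex
  have hn0 : n ≠ 0 := by
    intro h0
    rw [h0, pow_zero, pow_one] at hn
    exact hxN hn
  obtain ⟨m, hm⟩ := Nat.exists_eq_succ_of_ne_zero hn0
  refine ⟨x ^ 2 ^ m, N'.pow_mem hx _, fun h' => ?_, ?_⟩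
  · exact Nat.find_min hex (m := m) (by change m < n; omega) h'
  · rw [← pow_mul, ← pow_succ, Nat.succ_eq_add_one] at *
    rwa [← hm]

/-- the square root of `τ` -/
theorem exists_sqrt {N N' : Subfield Ω} (hN : N ≤ N') (hpi : ∀ x ∈ N', ∃ n : ℕ, x ^ 2 ^ n ∈ N) (h : ¬ N' ≤ N)
    {τ : Ω} (hsq : SqSpan N ![1, τ]) : ∃ w ∈ N', w ∉ N ∧ w ^ 2 = τ := by
  obtain ⟨u, hu, huN, hu2⟩ := exists_sq hpi h
  obtain ⟨a, ha, hua⟩ := hsq _ hu2
  simp only [Fin.sum_univ_two, Matrix.cons_val_zero, Matrix.cons_val_one, one_mul] at hua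
  have hb : a 1 ≠ 0 := by
    intro h0
    apply huN
    rw [h0, zero_pow two_ne_zero, mul_zero, add_zero] at hua
    rw [sq_inj hua]
    exact ha 0
  refine ⟨(u - a 0) / a 1, N'.div_mem (N'.sub_mem hu (hN (ha 0))) (hN (ha 1)), fun h' => huN ?_, ?_⟩
  · have h2 : u = (u - a 0) / a 1 * a 1 + a 0 := by
      rw [div_mul_cancel₀ _ hb, sub_add_cancel]
    rw [h2]
    exact N.add_mem (N.mul_mem h' (ha 1)) (ha 0)
  · rw [div_pow, sq_sub, hua, add_sub_cancel_left, mul_div_cancel_right₀ _ (pow_ne_zero 2 hb)]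

/-- one step -/
theorem step {N : Subfield Ω} {τ w : Ω} (hτ : τ ∈ N) (hw : w ^ 2 = τ) (hsq : SqSpan N ![1, τ]) :
    (∀ x ∈ N, ∃ v ∈ N ⊔ Subfield.closure {w}, v ^ 2 = x) ∧ SqSpan (N ⊔ Subfield.closure {w}) ![1, w] ∧
      N.relfinrank (N ⊔ Subfield.closure {w}) ≤ 2 := by
  have hwN : w ^ 2 ∈ N := hw ▸ hτ
  have hwm : w ∈ N ⊔ Subfield.closure {w} :=
    (le_sup_right : _ ≤ N ⊔ Subfield.closure {w}) (Subfield.subset_closure rfl)
  have hNle : N ≤ N ⊔ Subfield.closure {w} := le_sup_left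
  have h1 : ∀ x ∈ N, ∃ v ∈ N ⊔ Subfield.closure {w}, v ^ 2 = x := by
    intro x hx
    obtain ⟨a, ha, hxa⟩ := hsq x hx
    simp only [Fin.sum_univ_two, Matrix.cons_val_zero, Matrix.cons_val_one, one_mul] at hxa
    refine ⟨a 0 + w * a 1, Subfield.add_mem _ (hNle (ha 0)) (Subfield.mul_mem _ hwm (hNle (ha 1))), ?_⟩
    rw [add_pow_char (R := Ω) (p := 2), mul_pow, hw, hxa]
  refine ⟨h1, ?_, K315.RefN11.relfinrank_adjoin_le (by norm_num) hwN⟩
  intro y hy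
  obtain ⟨f, hf⟩ := K315.RefN11.exists_coeff (by norm_num : 0 < 2) hwN hy
  obtain ⟨v0, hv0, hv0'⟩ := h1 _ (f 0).2
  obtain ⟨v1, hv1, hv1'⟩ := h1 _ (f 1).2
  refine ⟨![v0, v1], ?_, ?_⟩
  · intro i
    fin_cases i
    · exact hv0
    · exact hv1
  · rw [hf]
    simp only [Fin.sum_univ_two, Matrix.cons_val_zero, Matrix.cons_val_one, one_mul, hv0', hv1', Fin.val_zero,
      Fin.val_one, pow_zero, pow_one, mul_one]
    ring

theorem main (k : ℕ) : ∀ {N N' : Subfield Ω}, N.relfinrank N' = k → N ≤ N' → N.relfinrank N' ≠ 0 →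
    (∀ x ∈ N', ∃ n : ℕ, x ^ 2 ^ n ∈ N) → ∀ {τ : Ω}, τ ∈ N → SqSpan N ![1, τ] →
    ∃ m : ℕ, N.relfinrank N' ≤ 2 ^ m ∧ ∀ x ∈ N, ∃ y ∈ N', y ^ 2 ^ m = x := by
  induction k using Nat.strong_induction_on with
  | _ k ih =>
  intro N N' hk hN hfin hpi τ hτ hsq
  by_cases h : N' ≤ N
  · refine ⟨0, ?_, fun x hx => ⟨x, hN hx, by simp⟩⟩
    rw [Subfield.relfinrank_eq_one_iff.2 h]
    simp
  obtain ⟨w, hw, hwN, hwτ⟩ := exists_sqrt hN hpi h hsq
  obtain ⟨h1, h2, h3⟩ := step hτ hwτ hsq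
  have hwm : w ∈ N ⊔ Subfield.closure {w} :=
    (le_sup_right : _ ≤ N ⊔ Subfield.closure {w}) (Subfield.subset_closure rfl)
  set N1 : Subfield Ω := N ⊔ Subfield.closure {w} with hN1
  have hle : N ≤ N1 := le_sup_left
  have hle' : N1 ≤ N' := by
    rw [hN1]
    refine sup_le hN ?_
    rw [Subfield.closure_le, Set.singleton_subset_iff]
    exact hw
  have hmul : N.relfinrank N1 * N1.relfinrank N' = N.relfinrank N' := Subfield.relfinrank_mul_relfinrank hle hle'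
  have hne : N.relfinrank N1 ≠ 1 := fun h' => hwN (Subfield.relfinrank_eq_one_iff.1 h' hwm)
  have h01 : N.relfinrank N1 ≠ 0 := fun h' => hfin (by rw [← hmul, h', zero_mul])
  have h02 : N1.relfinrank N' ≠ 0 := fun h' => hfin (by rw [← hmul, h', mul_zero])
  have hlt : N1.relfinrank N' < k := by
    rw [← hk, ← hmul]
    have : 2 ≤ N.relfinrank N1 := by omega
    nlinarith [Nat.pos_of_ne_zero h02]
  obtain ⟨m, hm, hm'⟩ := ih _ hlt rfl hle' h02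
    (fun x hx => (hpi x hx).imp fun n hn => hle hn) hwm h2
  refine ⟨m + 1, ?_, ?_⟩
  · rw [← hmul, pow_succ, mul_comm (2 ^ m)]
    exact Nat.mul_le_mul h3 hm
  · intro x hx
    obtain ⟨v, hv, hvx⟩ := h1 x hx
    obtain ⟨y, hy, hyv⟩ := hm' v hv
    exact ⟨y, hy, by rw [pow_succ, pow_mul, hyv, hvx]⟩

end

variable {Ω : Type} [NormedField Ω] [IsUltrametricDist Ω] [IsAlgClosed Ω] [CharP Ω 2]

omit [IsUltrametricDist Ω] [IsAlgClosed Ω] in
theorem N9_insep {N N' : Subfield Ω} (hN : N ≤ N') (hfin : N.relfinrank N' ≠ 0)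
    (hpi : ∀ x ∈ N', ∃ n : ℕ, x ^ 2 ^ n ∈ N) {τ : Ω} (hτ : τ ∈ N) (hsq : SqSpan N ![1, τ]) :
    ∃ m : ℕ, N.relfinrank N' ≤ 2 ^ m ∧ ∀ x ∈ N, ∃ y ∈ N', y ^ 2 ^ m = x :=
  main _ rfl hN hfin hpi hτ hsq

end Groth.Agent.EtAlg.K119.RefN9
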